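import Cfsg.Agent.Lib.Cert.Co3o.O0

set_option autoImplicit false
set_option maxRecDepth 100000

namespace Cfsg.Agent.Ct.Co3o

open Cfsg.Agent.PC

theorem v1x35000 : Nat.beq (rng u1 (nat_lit 35000) (nat_lit 2500)) (nat_lit 0) = true := by decide +kernel
theorem v1x37500 : Nat.beq (rng u1 (nat_lit 37500) (nat_lit 2500)) (nat_lit 0) = true := by decide +kernel
theorem v1x40000 : Nat.beq (rng u1 (nat_lit 40000) (nat_lit 2500)) (nat_lit 0) = true := by decide +kernel
theorem v1x42500 : Nat.beq (rng u1 (nat_lit 42500) (nat_lit 2500)) (nat_lit 0) = true := by decide +kernel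
theorem v1x45000 : Nat.beq (rng u1 (nat_lit 45000) (nat_lit 2500)) (nat_lit 0) = true := by decide +kernel
theorem v1x47500 : Nat.beq (rng u1 (nat_lit 47500) (nat_lit 2500)) (nat_lit 0) = true := by decide +kernel
theorem v1x50000 : Nat.beq (rng u1 (nat_lit 50000) (nat_lit 2500)) (nat_lit 0) = true := by decide +kernel
theorem v1x52500 : Nat.beq (rng u1 (nat_lit 52500) (nat_lit 2500)) (nat_lit 0) = true := by decide +kernel
theorem v1x55000 : Nat.beq (rng u1 (nat_lit 55000) (nat_lit 2500)) (nat_lit 0) = true := by decide +kernel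
theorem v1x57500 : Nat.beq (rng u1 (nat_lit 57500) (nat_lit 2500)) (nat_lit 0) = true := by decide +kernel

end Cfsg.Agent.Ct.Co3o
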