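import Cfsg.Agent.Lib.Cert.Co3o.O0

set_option autoImplicit false
set_option maxRecDepth 100000

namespace Cfsg.Agent.Ct.Co3o

open Cfsg.Agent.PC

theorem v0x137500 : Nat.beq (rng u0 (nat_lit 137500) (nat_lit 2500)) (nat_lit 0) = true := by decide +kernel
theorem v0x140000 : Nat.beq (rng u0 (nat_lit 140000) (nat_lit 2500)) (nat_lit 0) = true := by decide +kernel
theorem v0x142500 : Nat.beq (rng u0 (nat_lit 142500) (nat_lit 2500)) (nat_lit 0) = true := by decide +kernel
theorem v0x145000 : Nat.beq (rng u0 (nat_lit 145000) (nat_lit 2500)) (nat_lit 0) = true := by decide +kernel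
theorem v0x147500 : Nat.beq (rng u0 (nat_lit 147500) (nat_lit 2500)) (nat_lit 0) = true := by decide +kernel
theorem v0x150000 : Nat.beq (rng u0 (nat_lit 150000) (nat_lit 2500)) (nat_lit 0) = true := by decide +kernel
theorem v0x152500 : Nat.beq (rng u0 (nat_lit 152500) (nat_lit 2500)) (nat_lit 0) = true := by decide +kernel
theorem v0x155000 : Nat.beq (rng u0 (nat_lit 155000) (nat_lit 2500)) (nat_lit 0) = true := by decide +kernel
theorem v0x157500 : Nat.beq (rng u0 (nat_lit 157500) (nat_lit 2500)) (nat_lit 0) = true := by decide +kernel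
theorem v0x160000 : Nat.beq (rng u0 (nat_lit 160000) (nat_lit 2500)) (nat_lit 0) = true := by decide +kernel

end Cfsg.Agent.Ct.Co3o
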