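import Cfsg.Agent.Lib.Cert.Co3o.O0

set_option autoImplicit false
set_option maxRecDepth 100000

namespace Cfsg.Agent.Ct.Co3o

open Cfsg.Agent.PC

theorem v0x162500 : Nat.beq (rng u0 (nat_lit 162500) (nat_lit 2500)) (nat_lit 0) = true := by decide +kernel
theorem v0x165000 : Nat.beq (rng u0 (nat_lit 165000) (nat_lit 2500)) (nat_lit 0) = true := by decide +kernel
theorem v0x167500 : Nat.beq (rng u0 (nat_lit 167500) (nat_lit 2500)) (nat_lit 0) = true := by decide +kernel
theorem v0x170000 : Nat.beq (rng u0 (nat_lit 170000) (nat_lit 775)) (nat_lit 0) = true := by decide +kernel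

end Cfsg.Agent.Ct.Co3o
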