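import Cfsg.Agent.Lib.Cert.Co3o.O0

set_option autoImplicit false
set_option maxRecDepth 100000

namespace Cfsg.Agent.Ct.Co3o

open Cfsg.Agent.PC

theorem d60000 : Nat.beq (rng f3 (nat_lit 60000) (nat_lit 2000)) (nat_lit 0) = true := by decide +kernel
theorem d62000 : Nat.beq (rng f3 (nat_lit 62000) (nat_lit 2000)) (nat_lit 0) = true := by decide +kernel
theorem d64000 : Nat.beq (rng f3 (nat_lit 64000) (nat_lit 2000)) (nat_lit 0) = true := by decide +kernel
theorem d66000 : Nat.beq (rng f3 (nat_lit 66000) (nat_lit 2000)) (nat_lit 0) = true := by decide +kernel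
theorem d68000 : Nat.beq (rng f3 (nat_lit 68000) (nat_lit 2000)) (nat_lit 0) = true := by decide +kernel
theorem d70000 : Nat.beq (rng f3 (nat_lit 70000) (nat_lit 2000)) (nat_lit 0) = true := by decide +kernel
theorem d72000 : Nat.beq (rng f3 (nat_lit 72000) (nat_lit 2000)) (nat_lit 0) = true := by decide +kernel
theorem d74000 : Nat.beq (rng f3 (nat_lit 74000) (nat_lit 2000)) (nat_lit 0) = true := by decide +kernel
theorem d76000 : Nat.beq (rng f3 (nat_lit 76000) (nat_lit 2000)) (nat_lit 0) = true := by decide +kernel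
theorem d78000 : Nat.beq (rng f3 (nat_lit 78000) (nat_lit 2000)) (nat_lit 0) = true := by decide +kernel

end Cfsg.Agent.Ct.Co3o
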