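import Cfsg.Agent.Lib.Cert.Co3o.O0

set_option autoImplicit false
set_option maxRecDepth 100000

namespace Cfsg.Agent.Ct.Co3o

open Cfsg.Agent.PC

theorem d80000 : Nat.beq (rng f3 (nat_lit 80000) (nat_lit 2000)) (nat_lit 0) = true := by decide +kernel
theorem d82000 : Nat.beq (rng f3 (nat_lit 82000) (nat_lit 2000)) (nat_lit 0) = true := by decide +kernel
theorem d84000 : Nat.beq (rng f3 (nat_lit 84000) (nat_lit 2000)) (nat_lit 0) = true := by decide +kernel
theorem d86000 : Nat.beq (rng f3 (nat_lit 86000) (nat_lit 2000)) (nat_lit 0) = true := by decide +kernel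
theorem d88000 : Nat.beq (rng f3 (nat_lit 88000) (nat_lit 2000)) (nat_lit 0) = true := by decide +kernel
theorem d90000 : Nat.beq (rng f3 (nat_lit 90000) (nat_lit 2000)) (nat_lit 0) = true := by decide +kernel
theorem d92000 : Nat.beq (rng f3 (nat_lit 92000) (nat_lit 2000)) (nat_lit 0) = true := by decide +kernel
theorem d94000 : Nat.beq (rng f3 (nat_lit 94000) (nat_lit 2000)) (nat_lit 0) = true := by decide +kernel
theorem d96000 : Nat.beq (rng f3 (nat_lit 96000) (nat_lit 2000)) (nat_lit 0) = true := by decide +kernel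
theorem d98000 : Nat.beq (rng f3 (nat_lit 98000) (nat_lit 2000)) (nat_lit 0) = true := by decide +kernel

end Cfsg.Agent.Ct.Co3o
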