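import Cfsg.Agent.Lib.Cert.Co3o.O0

set_option autoImplicit false
set_option maxRecDepth 100000

namespace Cfsg.Agent.Ct.Co3o

open Cfsg.Agent.PC

theorem d100000 : Nat.beq (rng f3 (nat_lit 100000) (nat_lit 2000)) (nat_lit 0) = true := by decide +kernel
theorem d102000 : Nat.beq (rng f3 (nat_lit 102000) (nat_lit 2000)) (nat_lit 0) = true := by decide +kernel
theorem d104000 : Nat.beq (rng f3 (nat_lit 104000) (nat_lit 2000)) (nat_lit 0) = true := by decide +kernel
theorem d106000 : Nat.beq (rng f3 (nat_lit 106000) (nat_lit 2000)) (nat_lit 0) = true := by decide +kernel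
theorem d108000 : Nat.beq (rng f3 (nat_lit 108000) (nat_lit 2000)) (nat_lit 0) = true := by decide +kernel
theorem d110000 : Nat.beq (rng f3 (nat_lit 110000) (nat_lit 2000)) (nat_lit 0) = true := by decide +kernel
theorem d112000 : Nat.beq (rng f3 (nat_lit 112000) (nat_lit 2000)) (nat_lit 0) = true := by decide +kernel
theorem d114000 : Nat.beq (rng f3 (nat_lit 114000) (nat_lit 2000)) (nat_lit 0) = true := by decide +kernel
theorem d116000 : Nat.beq (rng f3 (nat_lit 116000) (nat_lit 2000)) (nat_lit 0) = true := by decide +kernel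
theorem d118000 : Nat.beq (rng f3 (nat_lit 118000) (nat_lit 2000)) (nat_lit 0) = true := by decide +kernel

end Cfsg.Agent.Ct.Co3o
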