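import Cfsg.Agent.Lib.Cert.Co3o.U0
import Cfsg.Agent.Lib.Cert.Co3o.U1
import Cfsg.Agent.Lib.Cert.Co3o.U2
import Cfsg.Agent.Lib.Cert.Co3o.U3
import Cfsg.Agent.Lib.Cert.Co3o.U4
import Cfsg.Agent.Lib.Cert.Co3o.U5
import Cfsg.Agent.Lib.Cert.Co3o.U6
import Cfsg.Agent.Lib.Cert.Co3o.U7
import Cfsg.Agent.Lib.Cert.Co3o.U8
import Cfsg.Agent.Lib.Cert.Co3o.U9
import Cfsg.Agent.Lib.Cert.Co3o.U10
import Cfsg.Agent.Lib.Cert.Co3o.U11
import Cfsg.Agent.Lib.Cert.Co3o.U12
import Cfsg.Agent.Lib.Cert.Co3o.U13
import Cfsg.Agent.Lib.Cert.Co3o.U14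
import Cfsg.Agent.Lib.Cert.Co3o.U15
import Cfsg.Agent.Lib.Cert.Co3o.U16
import Cfsg.Agent.Lib.Cert.Co3o.U17
import Cfsg.Agent.Lib.Cert.Co3o.U18
import Cfsg.Agent.Lib.Cert.Co3o.U19
import Cfsg.Agent.Lib.Cert.Co3o.U20
import Cfsg.Agent.Lib.Cert.Co3o.U21
import Cfsg.Agent.Lib.Cert.Co3o.U22

set_option autoImplicit false
set_option maxRecDepth 100000

namespace Cfsg.Agent.Ct.Co3o

open Cfsg.Agent.PC

open Cfsg.Agent.Fi Cfsg.Agent.Ct
theorem h3 : ∀ i < 170774, f3 i = 0 := by
  have h := zero_lt_zero f3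
  have h := zero_lt_add (a := (nat_lit 0)) (n := (nat_lit 2000)) (b := (nat_lit 2000)) h d0 rfl
  have h := zero_lt_add (a := (nat_lit 2000)) (n := (nat_lit 2000)) (b := (nat_lit 4000)) h d2000 rfl
  have h := zero_lt_add (a := (nat_lit 4000)) (n := (nat_lit 2000)) (b := (nat_lit 6000)) h d4000 rfl
  have h := zero_lt_add (a := (nat_lit 6000)) (n := (nat_lit 2000)) (b := (nat_lit 8000)) h d6000 rfl
  have h := zero_lt_add (a := (nat_lit 8000)) (n := (nat_lit 2000)) (b := (nat_lit 10000)) h d8000 rfl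
  have h := zero_lt_add (a := (nat_lit 10000)) (n := (nat_lit 2000)) (b := (nat_lit 12000)) h d10000 rfl
  have h := zero_lt_add (a := (nat_lit 12000)) (n := (nat_lit 2000)) (b := (nat_lit 14000)) h d12000 rfl
  have h := zero_lt_add (a := (nat_lit 14000)) (n := (nat_lit 2000)) (b := (nat_lit 16000)) h d14000 rfl
  have h := zero_lt_add (a := (nat_lit 16000)) (n := (nat_lit 2000)) (b := (nat_lit 18000)) h d16000 rfl
  have h := zero_lt_add (a := (nat_lit 18000)) (n := (nat_lit 2000)) (b := (nat_lit 20000)) h d18000 rfl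
  have h := zero_lt_add (a := (nat_lit 20000)) (n := (nat_lit 2000)) (b := (nat_lit 22000)) h d20000 rfl
  have h := zero_lt_add (a := (nat_lit 22000)) (n := (nat_lit 2000)) (b := (nat_lit 24000)) h d22000 rfl
  have h := zero_lt_add (a := (nat_lit 24000)) (n := (nat_lit 2000)) (b := (nat_lit 26000)) h d24000 rfl
  have h := zero_lt_add (a := (nat_lit 26000)) (n := (nat_lit 2000)) (b := (nat_lit 28000)) h d26000 rfl
  have h := zero_lt_add (a := (nat_lit 28000)) (n := (nat_lit 2000)) (b := (nat_lit 30000)) h d28000 rfl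
  have h := zero_lt_add (a := (nat_lit 30000)) (n := (nat_lit 2000)) (b := (nat_lit 32000)) h d30000 rfl
  have h := zero_lt_add (a := (nat_lit 32000)) (n := (nat_lit 2000)) (b := (nat_lit 34000)) h d32000 rfl
  have h := zero_lt_add (a := (nat_lit 34000)) (n := (nat_lit 2000)) (b := (nat_lit 36000)) h d34000 rfl
  have h := zero_lt_add (a := (nat_lit 36000)) (n := (nat_lit 2000)) (b := (nat_lit 38000)) h d36000 rfl
  have h := zero_lt_add (a := (nat_lit 38000)) (n := (nat_lit 2000)) (b := (nat_lit 40000)) h d38000 rfl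
  have h := zero_lt_add (a := (nat_lit 40000)) (n := (nat_lit 2000)) (b := (nat_lit 42000)) h d40000 rfl
  have h := zero_lt_add (a := (nat_lit 42000)) (n := (nat_lit 2000)) (b := (nat_lit 44000)) h d42000 rfl
  have h := zero_lt_add (a := (nat_lit 44000)) (n := (nat_lit 2000)) (b := (nat_lit 46000)) h d44000 rfl
  have h := zero_lt_add (a := (nat_lit 46000)) (n := (nat_lit 2000)) (b := (nat_lit 48000)) h d46000 rfl
  have h := zero_lt_add (a := (nat_lit 48000)) (n := (nat_lit 2000)) (b := (nat_lit 50000)) h d48000 rfl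
  have h := zero_lt_add (a := (nat_lit 50000)) (n := (nat_lit 2000)) (b := (nat_lit 52000)) h d50000 rfl
  have h := zero_lt_add (a := (nat_lit 52000)) (n := (nat_lit 2000)) (b := (nat_lit 54000)) h d52000 rfl
  have h := zero_lt_add (a := (nat_lit 54000)) (n := (nat_lit 2000)) (b := (nat_lit 56000)) h d54000 rfl
  have h := zero_lt_add (a := (nat_lit 56000)) (n := (nat_lit 2000)) (b := (nat_lit 58000)) h d56000 rfl
  have h := zero_lt_add (a := (nat_lit 58000)) (n := (nat_lit 2000)) (b := (nat_lit 60000)) h d58000 rfl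
  have h := zero_lt_add (a := (nat_lit 60000)) (n := (nat_lit 2000)) (b := (nat_lit 62000)) h d60000 rfl
  have h := zero_lt_add (a := (nat_lit 62000)) (n := (nat_lit 2000)) (b := (nat_lit 64000)) h d62000 rfl
  have h := zero_lt_add (a := (nat_lit 64000)) (n := (nat_lit 2000)) (b := (nat_lit 66000)) h d64000 rfl
  have h := zero_lt_add (a := (nat_lit 66000)) (n := (nat_lit 2000)) (b := (nat_lit 68000)) h d66000 rfl
  have h := zero_lt_add (a := (nat_lit 68000)) (n := (nat_lit 2000)) (b := (nat_lit 70000)) h d68000 rfl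
  have h := zero_lt_add (a := (nat_lit 70000)) (n := (nat_lit 2000)) (b := (nat_lit 72000)) h d70000 rfl
  have h := zero_lt_add (a := (nat_lit 72000)) (n := (nat_lit 2000)) (b := (nat_lit 74000)) h d72000 rfl
  have h := zero_lt_add (a := (nat_lit 74000)) (n := (nat_lit 2000)) (b := (nat_lit 76000)) h d74000 rfl
  have h := zero_lt_add (a := (nat_lit 76000)) (n := (nat_lit 2000)) (b := (nat_lit 78000)) h d76000 rfl
  have h := zero_lt_add (a := (nat_lit 78000)) (n := (nat_lit 2000)) (b := (nat_lit 80000)) h d78000 rfl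
  have h := zero_lt_add (a := (nat_lit 80000)) (n := (nat_lit 2000)) (b := (nat_lit 82000)) h d80000 rfl
  have h := zero_lt_add (a := (nat_lit 82000)) (n := (nat_lit 2000)) (b := (nat_lit 84000)) h d82000 rfl
  have h := zero_lt_add (a := (nat_lit 84000)) (n := (nat_lit 2000)) (b := (nat_lit 86000)) h d84000 rfl
  have h := zero_lt_add (a := (nat_lit 86000)) (n := (nat_lit 2000)) (b := (nat_lit 88000)) h d86000 rfl
  have h := zero_lt_add (a := (nat_lit 88000)) (n := (nat_lit 2000)) (b := (nat_lit 90000)) h d88000 rfl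
  have h := zero_lt_add (a := (nat_lit 90000)) (n := (nat_lit 2000)) (b := (nat_lit 92000)) h d90000 rfl
  have h := zero_lt_add (a := (nat_lit 92000)) (n := (nat_lit 2000)) (b := (nat_lit 94000)) h d92000 rfl
  have h := zero_lt_add (a := (nat_lit 94000)) (n := (nat_lit 2000)) (b := (nat_lit 96000)) h d94000 rfl
  have h := zero_lt_add (a := (nat_lit 96000)) (n := (nat_lit 2000)) (b := (nat_lit 98000)) h d96000 rfl
  have h := zero_lt_add (a := (nat_lit 98000)) (n := (nat_lit 2000)) (b := (nat_lit 100000)) h d98000 rfl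
  have h := zero_lt_add (a := (nat_lit 100000)) (n := (nat_lit 2000)) (b := (nat_lit 102000)) h d100000 rfl
  have h := zero_lt_add (a := (nat_lit 102000)) (n := (nat_lit 2000)) (b := (nat_lit 104000)) h d102000 rfl
  have h := zero_lt_add (a := (nat_lit 104000)) (n := (nat_lit 2000)) (b := (nat_lit 106000)) h d104000 rfl
  have h := zero_lt_add (a := (nat_lit 106000)) (n := (nat_lit 2000)) (b := (nat_lit 108000)) h d106000 rfl
  have h := zero_lt_add (a := (nat_lit 108000)) (n := (nat_lit 2000)) (b := (nat_lit 110000)) h d108000 rfl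
  have h := zero_lt_add (a := (nat_lit 110000)) (n := (nat_lit 2000)) (b := (nat_lit 112000)) h d110000 rfl
  have h := zero_lt_add (a := (nat_lit 112000)) (n := (nat_lit 2000)) (b := (nat_lit 114000)) h d112000 rfl
  have h := zero_lt_add (a := (nat_lit 114000)) (n := (nat_lit 2000)) (b := (nat_lit 116000)) h d114000 rfl
  have h := zero_lt_add (a := (nat_lit 116000)) (n := (nat_lit 2000)) (b := (nat_lit 118000)) h d116000 rfl
  have h := zero_lt_add (a := (nat_lit 118000)) (n := (nat_lit 2000)) (b := (nat_lit 120000)) h d118000 rfl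
  have h := zero_lt_add (a := (nat_lit 120000)) (n := (nat_lit 2000)) (b := (nat_lit 122000)) h d120000 rfl
  have h := zero_lt_add (a := (nat_lit 122000)) (n := (nat_lit 2000)) (b := (nat_lit 124000)) h d122000 rfl
  have h := zero_lt_add (a := (nat_lit 124000)) (n := (nat_lit 2000)) (b := (nat_lit 126000)) h d124000 rfl
  have h := zero_lt_add (a := (nat_lit 126000)) (n := (nat_lit 2000)) (b := (nat_lit 128000)) h d126000 rfl
  have h := zero_lt_add (a := (nat_lit 128000)) (n := (nat_lit 2000)) (b := (nat_lit 130000)) h d128000 rfl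
  have h := zero_lt_add (a := (nat_lit 130000)) (n := (nat_lit 2000)) (b := (nat_lit 132000)) h d130000 rfl
  have h := zero_lt_add (a := (nat_lit 132000)) (n := (nat_lit 2000)) (b := (nat_lit 134000)) h d132000 rfl
  have h := zero_lt_add (a := (nat_lit 134000)) (n := (nat_lit 2000)) (b := (nat_lit 136000)) h d134000 rfl
  have h := zero_lt_add (a := (nat_lit 136000)) (n := (nat_lit 2000)) (b := (nat_lit 138000)) h d136000 rfl
  have h := zero_lt_add (a := (nat_lit 138000)) (n := (nat_lit 2000)) (b := (nat_lit 140000)) h d138000 rfl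
  have h := zero_lt_add (a := (nat_lit 140000)) (n := (nat_lit 2000)) (b := (nat_lit 142000)) h d140000 rfl
  have h := zero_lt_add (a := (nat_lit 142000)) (n := (nat_lit 2000)) (b := (nat_lit 144000)) h d142000 rfl
  have h := zero_lt_add (a := (nat_lit 144000)) (n := (nat_lit 2000)) (b := (nat_lit 146000)) h d144000 rfl
  have h := zero_lt_add (a := (nat_lit 146000)) (n := (nat_lit 2000)) (b := (nat_lit 148000)) h d146000 rfl
  have h := zero_lt_add (a := (nat_lit 148000)) (n := (nat_lit 2000)) (b := (nat_lit 150000)) h d148000 rfl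
  have h := zero_lt_add (a := (nat_lit 150000)) (n := (nat_lit 2000)) (b := (nat_lit 152000)) h d150000 rfl
  have h := zero_lt_add (a := (nat_lit 152000)) (n := (nat_lit 2000)) (b := (nat_lit 154000)) h d152000 rfl
  have h := zero_lt_add (a := (nat_lit 154000)) (n := (nat_lit 2000)) (b := (nat_lit 156000)) h d154000 rfl
  have h := zero_lt_add (a := (nat_lit 156000)) (n := (nat_lit 2000)) (b := (nat_lit 158000)) h d156000 rfl
  have h := zero_lt_add (a := (nat_lit 158000)) (n := (nat_lit 2000)) (b := (nat_lit 160000)) h d158000 rfl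
  have h := zero_lt_add (a := (nat_lit 160000)) (n := (nat_lit 2000)) (b := (nat_lit 162000)) h d160000 rfl
  have h := zero_lt_add (a := (nat_lit 162000)) (n := (nat_lit 2000)) (b := (nat_lit 164000)) h d162000 rfl
  have h := zero_lt_add (a := (nat_lit 164000)) (n := (nat_lit 2000)) (b := (nat_lit 166000)) h d164000 rfl
  have h := zero_lt_add (a := (nat_lit 166000)) (n := (nat_lit 2000)) (b := (nat_lit 168000)) h d166000 rfl
  have h := zero_lt_add (a := (nat_lit 168000)) (n := (nat_lit 2000)) (b := (nat_lit 170000)) h d168000 rfl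
  have h := zero_lt_add (a := (nat_lit 170000)) (n := (nat_lit 774)) (b := (nat_lit 170774)) h d170000 rfl
  exact h
theorem cl : Cl q sg 0 V 170775 := md.cl2 cs h3 (reps_tabs (Co3.md0).reps (by decide +kernel) h4) (M' := 8) (t := Ct) (by decide +kernel)
  (by rw [Co3.card]; decide +kernel)
theorem k1 : ∀ i < 170775, u1 i = 0 := by
  have h := zero_lt_zero u1
  have h := zero_lt_add (a := (nat_lit 0)) (n := (nat_lit 2500)) (b := (nat_lit 2500)) h v1x0 rfl
  have h := zero_lt_add (a := (nat_lit 2500)) (n := (nat_lit 2500)) (b := (nat_lit 5000)) h v1x2500 rfl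
  have h := zero_lt_add (a := (nat_lit 5000)) (n := (nat_lit 2500)) (b := (nat_lit 7500)) h v1x5000 rfl
  have h := zero_lt_add (a := (nat_lit 7500)) (n := (nat_lit 2500)) (b := (nat_lit 10000)) h v1x7500 rfl
  have h := zero_lt_add (a := (nat_lit 10000)) (n := (nat_lit 2500)) (b := (nat_lit 12500)) h v1x10000 rfl
  have h := zero_lt_add (a := (nat_lit 12500)) (n := (nat_lit 2500)) (b := (nat_lit 15000)) h v1x12500 rfl
  have h := zero_lt_add (a := (nat_lit 15000)) (n := (nat_lit 2500)) (b := (nat_lit 17500)) h v1x15000 rfl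
  have h := zero_lt_add (a := (nat_lit 17500)) (n := (nat_lit 2500)) (b := (nat_lit 20000)) h v1x17500 rfl
  have h := zero_lt_add (a := (nat_lit 20000)) (n := (nat_lit 2500)) (b := (nat_lit 22500)) h v1x20000 rfl
  have h := zero_lt_add (a := (nat_lit 22500)) (n := (nat_lit 2500)) (b := (nat_lit 25000)) h v1x22500 rfl
  have h := zero_lt_add (a := (nat_lit 25000)) (n := (nat_lit 2500)) (b := (nat_lit 27500)) h v1x25000 rfl
  have h := zero_lt_add (a := (nat_lit 27500)) (n := (nat_lit 2500)) (b := (nat_lit 30000)) h v1x27500 rfl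
  have h := zero_lt_add (a := (nat_lit 30000)) (n := (nat_lit 2500)) (b := (nat_lit 32500)) h v1x30000 rfl
  have h := zero_lt_add (a := (nat_lit 32500)) (n := (nat_lit 2500)) (b := (nat_lit 35000)) h v1x32500 rfl
  have h := zero_lt_add (a := (nat_lit 35000)) (n := (nat_lit 2500)) (b := (nat_lit 37500)) h v1x35000 rfl
  have h := zero_lt_add (a := (nat_lit 37500)) (n := (nat_lit 2500)) (b := (nat_lit 40000)) h v1x37500 rfl
  have h := zero_lt_add (a := (nat_lit 40000)) (n := (nat_lit 2500)) (b := (nat_lit 42500)) h v1x40000 rfl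
  have h := zero_lt_add (a := (nat_lit 42500)) (n := (nat_lit 2500)) (b := (nat_lit 45000)) h v1x42500 rfl
  have h := zero_lt_add (a := (nat_lit 45000)) (n := (nat_lit 2500)) (b := (nat_lit 47500)) h v1x45000 rfl
  have h := zero_lt_add (a := (nat_lit 47500)) (n := (nat_lit 2500)) (b := (nat_lit 50000)) h v1x47500 rfl
  have h := zero_lt_add (a := (nat_lit 50000)) (n := (nat_lit 2500)) (b := (nat_lit 52500)) h v1x50000 rfl
  have h := zero_lt_add (a := (nat_lit 52500)) (n := (nat_lit 2500)) (b := (nat_lit 55000)) h v1x52500 rfl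
  have h := zero_lt_add (a := (nat_lit 55000)) (n := (nat_lit 2500)) (b := (nat_lit 57500)) h v1x55000 rfl
  have h := zero_lt_add (a := (nat_lit 57500)) (n := (nat_lit 2500)) (b := (nat_lit 60000)) h v1x57500 rfl
  have h := zero_lt_add (a := (nat_lit 60000)) (n := (nat_lit 2500)) (b := (nat_lit 62500)) h v1x60000 rfl
  have h := zero_lt_add (a := (nat_lit 62500)) (n := (nat_lit 2500)) (b := (nat_lit 65000)) h v1x62500 rfl
  have h := zero_lt_add (a := (nat_lit 65000)) (n := (nat_lit 2500)) (b := (nat_lit 67500)) h v1x65000 rfl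
  have h := zero_lt_add (a := (nat_lit 67500)) (n := (nat_lit 2500)) (b := (nat_lit 70000)) h v1x67500 rfl
  have h := zero_lt_add (a := (nat_lit 70000)) (n := (nat_lit 2500)) (b := (nat_lit 72500)) h v1x70000 rfl
  have h := zero_lt_add (a := (nat_lit 72500)) (n := (nat_lit 2500)) (b := (nat_lit 75000)) h v1x72500 rfl
  have h := zero_lt_add (a := (nat_lit 75000)) (n := (nat_lit 2500)) (b := (nat_lit 77500)) h v1x75000 rfl
  have h := zero_lt_add (a := (nat_lit 77500)) (n := (nat_lit 2500)) (b := (nat_lit 80000)) h v1x77500 rfl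
  have h := zero_lt_add (a := (nat_lit 80000)) (n := (nat_lit 2500)) (b := (nat_lit 82500)) h v1x80000 rfl
  have h := zero_lt_add (a := (nat_lit 82500)) (n := (nat_lit 2500)) (b := (nat_lit 85000)) h v1x82500 rfl
  have h := zero_lt_add (a := (nat_lit 85000)) (n := (nat_lit 2500)) (b := (nat_lit 87500)) h v1x85000 rfl
  have h := zero_lt_add (a := (nat_lit 87500)) (n := (nat_lit 2500)) (b := (nat_lit 90000)) h v1x87500 rfl
  have h := zero_lt_add (a := (nat_lit 90000)) (n := (nat_lit 2500)) (b := (nat_lit 92500)) h v1x90000 rfl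
  have h := zero_lt_add (a := (nat_lit 92500)) (n := (nat_lit 2500)) (b := (nat_lit 95000)) h v1x92500 rfl
  have h := zero_lt_add (a := (nat_lit 95000)) (n := (nat_lit 2500)) (b := (nat_lit 97500)) h v1x95000 rfl
  have h := zero_lt_add (a := (nat_lit 97500)) (n := (nat_lit 2500)) (b := (nat_lit 100000)) h v1x97500 rfl
  have h := zero_lt_add (a := (nat_lit 100000)) (n := (nat_lit 2500)) (b := (nat_lit 102500)) h v1x100000 rfl
  have h := zero_lt_add (a := (nat_lit 102500)) (n := (nat_lit 2500)) (b := (nat_lit 105000)) h v1x102500 rfl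
  have h := zero_lt_add (a := (nat_lit 105000)) (n := (nat_lit 2500)) (b := (nat_lit 107500)) h v1x105000 rfl
  have h := zero_lt_add (a := (nat_lit 107500)) (n := (nat_lit 2500)) (b := (nat_lit 110000)) h v1x107500 rfl
  have h := zero_lt_add (a := (nat_lit 110000)) (n := (nat_lit 2500)) (b := (nat_lit 112500)) h v1x110000 rfl
  have h := zero_lt_add (a := (nat_lit 112500)) (n := (nat_lit 2500)) (b := (nat_lit 115000)) h v1x112500 rfl
  have h := zero_lt_add (a := (nat_lit 115000)) (n := (nat_lit 2500)) (b := (nat_lit 117500)) h v1x115000 rfl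
  have h := zero_lt_add (a := (nat_lit 117500)) (n := (nat_lit 2500)) (b := (nat_lit 120000)) h v1x117500 rfl
  have h := zero_lt_add (a := (nat_lit 120000)) (n := (nat_lit 2500)) (b := (nat_lit 122500)) h v1x120000 rfl
  have h := zero_lt_add (a := (nat_lit 122500)) (n := (nat_lit 2500)) (b := (nat_lit 125000)) h v1x122500 rfl
  have h := zero_lt_add (a := (nat_lit 125000)) (n := (nat_lit 2500)) (b := (nat_lit 127500)) h v1x125000 rfl
  have h := zero_lt_add (a := (nat_lit 127500)) (n := (nat_lit 2500)) (b := (nat_lit 130000)) h v1x127500 rfl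
  have h := zero_lt_add (a := (nat_lit 130000)) (n := (nat_lit 2500)) (b := (nat_lit 132500)) h v1x130000 rfl
  have h := zero_lt_add (a := (nat_lit 132500)) (n := (nat_lit 2500)) (b := (nat_lit 135000)) h v1x132500 rfl
  have h := zero_lt_add (a := (nat_lit 135000)) (n := (nat_lit 2500)) (b := (nat_lit 137500)) h v1x135000 rfl
  have h := zero_lt_add (a := (nat_lit 137500)) (n := (nat_lit 2500)) (b := (nat_lit 140000)) h v1x137500 rfl
  have h := zero_lt_add (a := (nat_lit 140000)) (n := (nat_lit 2500)) (b := (nat_lit 142500)) h v1x140000 rfl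
  have h := zero_lt_add (a := (nat_lit 142500)) (n := (nat_lit 2500)) (b := (nat_lit 145000)) h v1x142500 rfl
  have h := zero_lt_add (a := (nat_lit 145000)) (n := (nat_lit 2500)) (b := (nat_lit 147500)) h v1x145000 rfl
  have h := zero_lt_add (a := (nat_lit 147500)) (n := (nat_lit 2500)) (b := (nat_lit 150000)) h v1x147500 rfl
  have h := zero_lt_add (a := (nat_lit 150000)) (n := (nat_lit 2500)) (b := (nat_lit 152500)) h v1x150000 rfl
  have h := zero_lt_add (a := (nat_lit 152500)) (n := (nat_lit 2500)) (b := (nat_lit 155000)) h v1x152500 rfl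
  have h := zero_lt_add (a := (nat_lit 155000)) (n := (nat_lit 2500)) (b := (nat_lit 157500)) h v1x155000 rfl
  have h := zero_lt_add (a := (nat_lit 157500)) (n := (nat_lit 2500)) (b := (nat_lit 160000)) h v1x157500 rfl
  have h := zero_lt_add (a := (nat_lit 160000)) (n := (nat_lit 2500)) (b := (nat_lit 162500)) h v1x160000 rfl
  have h := zero_lt_add (a := (nat_lit 162500)) (n := (nat_lit 2500)) (b := (nat_lit 165000)) h v1x162500 rfl
  have h := zero_lt_add (a := (nat_lit 165000)) (n := (nat_lit 2500)) (b := (nat_lit 167500)) h v1x165000 rfl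
  have h := zero_lt_add (a := (nat_lit 167500)) (n := (nat_lit 2500)) (b := (nat_lit 170000)) h v1x167500 rfl
  have h := zero_lt_add (a := (nat_lit 170000)) (n := (nat_lit 775)) (b := (nat_lit 170775)) h v1x170000 rfl
  exact h
theorem o1 : CardLE (Fx q [nat_lit 14, nat_lit 0]) 96 := md.lvc cs cl au (aw := [nat_lit 12, nat_lit 10, nat_lit 12, nat_lit 11, nat_lit 13, nat_lit 13, nat_lit 11]) (y := 15) (by decide +kernel) k1 n1 o2
theorem k0 : ∀ i < 170775, u0 i = 0 := by
  have h := zero_lt_zero u0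
  have h := zero_lt_add (a := (nat_lit 0)) (n := (nat_lit 2500)) (b := (nat_lit 2500)) h v0x0 rfl
  have h := zero_lt_add (a := (nat_lit 2500)) (n := (nat_lit 2500)) (b := (nat_lit 5000)) h v0x2500 rfl
  have h := zero_lt_add (a := (nat_lit 5000)) (n := (nat_lit 2500)) (b := (nat_lit 7500)) h v0x5000 rfl
  have h := zero_lt_add (a := (nat_lit 7500)) (n := (nat_lit 2500)) (b := (nat_lit 10000)) h v0x7500 rfl
  have h := zero_lt_add (a := (nat_lit 10000)) (n := (nat_lit 2500)) (b := (nat_lit 12500)) h v0x10000 rfl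
  have h := zero_lt_add (a := (nat_lit 12500)) (n := (nat_lit 2500)) (b := (nat_lit 15000)) h v0x12500 rfl
  have h := zero_lt_add (a := (nat_lit 15000)) (n := (nat_lit 2500)) (b := (nat_lit 17500)) h v0x15000 rfl
  have h := zero_lt_add (a := (nat_lit 17500)) (n := (nat_lit 2500)) (b := (nat_lit 20000)) h v0x17500 rfl
  have h := zero_lt_add (a := (nat_lit 20000)) (n := (nat_lit 2500)) (b := (nat_lit 22500)) h v0x20000 rfl
  have h := zero_lt_add (a := (nat_lit 22500)) (n := (nat_lit 2500)) (b := (nat_lit 25000)) h v0x22500 rfl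
  have h := zero_lt_add (a := (nat_lit 25000)) (n := (nat_lit 2500)) (b := (nat_lit 27500)) h v0x25000 rfl
  have h := zero_lt_add (a := (nat_lit 27500)) (n := (nat_lit 2500)) (b := (nat_lit 30000)) h v0x27500 rfl
  have h := zero_lt_add (a := (nat_lit 30000)) (n := (nat_lit 2500)) (b := (nat_lit 32500)) h v0x30000 rfl
  have h := zero_lt_add (a := (nat_lit 32500)) (n := (nat_lit 2500)) (b := (nat_lit 35000)) h v0x32500 rfl
  have h := zero_lt_add (a := (nat_lit 35000)) (n := (nat_lit 2500)) (b := (nat_lit 37500)) h v0x35000 rfl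
  have h := zero_lt_add (a := (nat_lit 37500)) (n := (nat_lit 2500)) (b := (nat_lit 40000)) h v0x37500 rfl
  have h := zero_lt_add (a := (nat_lit 40000)) (n := (nat_lit 2500)) (b := (nat_lit 42500)) h v0x40000 rfl
  have h := zero_lt_add (a := (nat_lit 42500)) (n := (nat_lit 2500)) (b := (nat_lit 45000)) h v0x42500 rfl
  have h := zero_lt_add (a := (nat_lit 45000)) (n := (nat_lit 2500)) (b := (nat_lit 47500)) h v0x45000 rfl
  have h := zero_lt_add (a := (nat_lit 47500)) (n := (nat_lit 2500)) (b := (nat_lit 50000)) h v0x47500 rfl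
  have h := zero_lt_add (a := (nat_lit 50000)) (n := (nat_lit 2500)) (b := (nat_lit 52500)) h v0x50000 rfl
  have h := zero_lt_add (a := (nat_lit 52500)) (n := (nat_lit 2500)) (b := (nat_lit 55000)) h v0x52500 rfl
  have h := zero_lt_add (a := (nat_lit 55000)) (n := (nat_lit 2500)) (b := (nat_lit 57500)) h v0x55000 rfl
  have h := zero_lt_add (a := (nat_lit 57500)) (n := (nat_lit 2500)) (b := (nat_lit 60000)) h v0x57500 rfl
  have h := zero_lt_add (a := (nat_lit 60000)) (n := (nat_lit 2500)) (b := (nat_lit 62500)) h v0x60000 rfl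
  have h := zero_lt_add (a := (nat_lit 62500)) (n := (nat_lit 2500)) (b := (nat_lit 65000)) h v0x62500 rfl
  have h := zero_lt_add (a := (nat_lit 65000)) (n := (nat_lit 2500)) (b := (nat_lit 67500)) h v0x65000 rfl
  have h := zero_lt_add (a := (nat_lit 67500)) (n := (nat_lit 2500)) (b := (nat_lit 70000)) h v0x67500 rfl
  have h := zero_lt_add (a := (nat_lit 70000)) (n := (nat_lit 2500)) (b := (nat_lit 72500)) h v0x70000 rfl
  have h := zero_lt_add (a := (nat_lit 72500)) (n := (nat_lit 2500)) (b := (nat_lit 75000)) h v0x72500 rfl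
  have h := zero_lt_add (a := (nat_lit 75000)) (n := (nat_lit 2500)) (b := (nat_lit 77500)) h v0x75000 rfl
  have h := zero_lt_add (a := (nat_lit 77500)) (n := (nat_lit 2500)) (b := (nat_lit 80000)) h v0x77500 rfl
  have h := zero_lt_add (a := (nat_lit 80000)) (n := (nat_lit 2500)) (b := (nat_lit 82500)) h v0x80000 rfl
  have h := zero_lt_add (a := (nat_lit 82500)) (n := (nat_lit 2500)) (b := (nat_lit 85000)) h v0x82500 rfl
  have h := zero_lt_add (a := (nat_lit 85000)) (n := (nat_lit 2500)) (b := (nat_lit 87500)) h v0x85000 rfl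
  have h := zero_lt_add (a := (nat_lit 87500)) (n := (nat_lit 2500)) (b := (nat_lit 90000)) h v0x87500 rfl
  have h := zero_lt_add (a := (nat_lit 90000)) (n := (nat_lit 2500)) (b := (nat_lit 92500)) h v0x90000 rfl
  have h := zero_lt_add (a := (nat_lit 92500)) (n := (nat_lit 2500)) (b := (nat_lit 95000)) h v0x92500 rfl
  have h := zero_lt_add (a := (nat_lit 95000)) (n := (nat_lit 2500)) (b := (nat_lit 97500)) h v0x95000 rfl
  have h := zero_lt_add (a := (nat_lit 97500)) (n := (nat_lit 2500)) (b := (nat_lit 100000)) h v0x97500 rfl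
  have h := zero_lt_add (a := (nat_lit 100000)) (n := (nat_lit 2500)) (b := (nat_lit 102500)) h v0x100000 rfl
  have h := zero_lt_add (a := (nat_lit 102500)) (n := (nat_lit 2500)) (b := (nat_lit 105000)) h v0x102500 rfl
  have h := zero_lt_add (a := (nat_lit 105000)) (n := (nat_lit 2500)) (b := (nat_lit 107500)) h v0x105000 rfl
  have h := zero_lt_add (a := (nat_lit 107500)) (n := (nat_lit 2500)) (b := (nat_lit 110000)) h v0x107500 rfl
  have h := zero_lt_add (a := (nat_lit 110000)) (n := (nat_lit 2500)) (b := (nat_lit 112500)) h v0x110000 rfl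
  have h := zero_lt_add (a := (nat_lit 112500)) (n := (nat_lit 2500)) (b := (nat_lit 115000)) h v0x112500 rfl
  have h := zero_lt_add (a := (nat_lit 115000)) (n := (nat_lit 2500)) (b := (nat_lit 117500)) h v0x115000 rfl
  have h := zero_lt_add (a := (nat_lit 117500)) (n := (nat_lit 2500)) (b := (nat_lit 120000)) h v0x117500 rfl
  have h := zero_lt_add (a := (nat_lit 120000)) (n := (nat_lit 2500)) (b := (nat_lit 122500)) h v0x120000 rfl
  have h := zero_lt_add (a := (nat_lit 122500)) (n := (nat_lit 2500)) (b := (nat_lit 125000)) h v0x122500 rfl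
  have h := zero_lt_add (a := (nat_lit 125000)) (n := (nat_lit 2500)) (b := (nat_lit 127500)) h v0x125000 rfl
  have h := zero_lt_add (a := (nat_lit 127500)) (n := (nat_lit 2500)) (b := (nat_lit 130000)) h v0x127500 rfl
  have h := zero_lt_add (a := (nat_lit 130000)) (n := (nat_lit 2500)) (b := (nat_lit 132500)) h v0x130000 rfl
  have h := zero_lt_add (a := (nat_lit 132500)) (n := (nat_lit 2500)) (b := (nat_lit 135000)) h v0x132500 rfl
  have h := zero_lt_add (a := (nat_lit 135000)) (n := (nat_lit 2500)) (b := (nat_lit 137500)) h v0x135000 rfl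
  have h := zero_lt_add (a := (nat_lit 137500)) (n := (nat_lit 2500)) (b := (nat_lit 140000)) h v0x137500 rfl
  have h := zero_lt_add (a := (nat_lit 140000)) (n := (nat_lit 2500)) (b := (nat_lit 142500)) h v0x140000 rfl
  have h := zero_lt_add (a := (nat_lit 142500)) (n := (nat_lit 2500)) (b := (nat_lit 145000)) h v0x142500 rfl
  have h := zero_lt_add (a := (nat_lit 145000)) (n := (nat_lit 2500)) (b := (nat_lit 147500)) h v0x145000 rfl
  have h := zero_lt_add (a := (nat_lit 147500)) (n := (nat_lit 2500)) (b := (nat_lit 150000)) h v0x147500 rfl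
  have h := zero_lt_add (a := (nat_lit 150000)) (n := (nat_lit 2500)) (b := (nat_lit 152500)) h v0x150000 rfl
  have h := zero_lt_add (a := (nat_lit 152500)) (n := (nat_lit 2500)) (b := (nat_lit 155000)) h v0x152500 rfl
  have h := zero_lt_add (a := (nat_lit 155000)) (n := (nat_lit 2500)) (b := (nat_lit 157500)) h v0x155000 rfl
  have h := zero_lt_add (a := (nat_lit 157500)) (n := (nat_lit 2500)) (b := (nat_lit 160000)) h v0x157500 rfl
  have h := zero_lt_add (a := (nat_lit 160000)) (n := (nat_lit 2500)) (b := (nat_lit 162500)) h v0x160000 rfl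
  have h := zero_lt_add (a := (nat_lit 162500)) (n := (nat_lit 2500)) (b := (nat_lit 165000)) h v0x162500 rfl
  have h := zero_lt_add (a := (nat_lit 165000)) (n := (nat_lit 2500)) (b := (nat_lit 167500)) h v0x165000 rfl
  have h := zero_lt_add (a := (nat_lit 167500)) (n := (nat_lit 2500)) (b := (nat_lit 170000)) h v0x167500 rfl
  have h := zero_lt_add (a := (nat_lit 170000)) (n := (nat_lit 775)) (b := (nat_lit 170775)) h v0x170000 rfl
  exact h
theorem o0 : CardLE (Fx q [nat_lit 0]) 2903040 := md.lvc cs cl au (aw := [nat_lit 13, nat_lit 13]) (y := 14) (by decide +kernel) k0 n0 o1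
theorem aut : Nat.card (MulAut (Cfsg.Spor.Co3)) ≤ 170775 * 2903040 := cl.top au o0
theorem out : Nat.card (Cfsg.Out (Cfsg.Spor.Co3)) = 1 := out_one (Co3.ctr) aut (by rw [Co3.card]; decide)

end Cfsg.Agent.Ct.Co3o
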